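import Groth.Agent.SweepSix.NormSect
import Groth.Agent.CDivCoreLib.Basic
import Groth.Prelude.Def_ega3
import Mathlib.AlgebraicGeometry.Morphisms.Proper
import Mathlib.RingTheory.Localization.Integral

/-!
# Direct image of the structure sheaf and algebraic closedness of function fields
-/

set_option autoImplicit false
universe u

open CategoryTheory CategoryTheory.Limits AlgebraicGeometry TopologicalSpace Opposite

noncomputable section

namespace PushNormalLib

variable {X Y : Scheme.{u}} [IsIntegral X] [IsIntegral Y] (f : X ⟶ Y)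
  (hdom : f.base (genericPoint X) ⤳ genericPoint Y)

theorem mem_of_nonempty {U : Y.Opens} [Nonempty U] : genericPoint Y ∈ U := by
  obtain ⟨y, hy⟩ := ‹Nonempty U›
  exact ((genericPoint_specializes y).mem_open U.2 hy)

include hdom in
theorem gen_mem {U : Y.Opens} (hU : genericPoint Y ∈ U) : genericPoint X ∈ f ⁻¹ᵁ U :=
  hdom.mem_open U.2 hU

theorem stalkToFF_germ {U : Y.Opens} (hU : genericPoint Y ∈ U) (r : Γ(Y, U)) :
    CohIII.stalkToFunctionField f (genericPoint Y) hdom (Y.presheaf.germ U _ hU r) =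
      X.presheaf.germ (f ⁻¹ᵁ U) (genericPoint X) (gen_mem f hdom hU) (f.app U r) := by
  show (f.stalkMap _).hom ((Y.presheaf.stalkSpecializes hdom).hom (Y.presheaf.germ U _ hU r)) = _
  rw [TopCat.Presheaf.germ_stalkSpecializes_apply, Scheme.Hom.germ_stalkMap_apply]

theorem isIntegralElem_app [UniversallyClosed f] {W : Y.Opens} (hW : IsAffineOpen W) :
    (f.app W).hom.IsIntegral := by
  haveI : IsAffine W.toScheme := hW
  haveI : UniversallyClosed (f ∣_ W) := inferInstance
  have h := isIntegral_appTop_of_universallyClosed (f ∣_ W)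
  have e : f.app W = Y.presheaf.map (eqToHom (W.ι_image_top)).op ≫ (f ∣_ W).appTop ≫
      X.presheaf.map (eqToHom (show f ⁻¹ᵁ W = (f ⁻¹ᵁ W).ι ''ᵁ ⊤ from (f ⁻¹ᵁ W).ι_image_top.symm)).op := by
    rw [morphismRestrict_appTop, f.app_eq_appLE, f.app_eq_appLE]
    erw [Category.assoc, ← X.presheaf.map_comp]
    rw [← Category.assoc, Scheme.Hom.map_appLE, Scheme.Hom.appLE_map]
  rw [e, CommRingCat.hom_comp, CommRingCat.hom_comp]
  haveI : IsIso (Y.presheaf.map (eqToHom (W.ι_image_top)).op) := Functor.map_isIso _ _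
  refine RingHom.IsIntegral.trans _ _ (RingHom.isIntegral_of_surjective _ fun b => ?_)
    (RingHom.IsIntegral.trans _ _ h (RingHom.isIntegral_of_surjective _ fun b => ?_))
  · exact ((ConcreteCategory.bijective_of_isIso _).surjective b)
  · refine Function.Bijective.surjective (ConcreteCategory.bijective_of_isIso (C := CommRingCat)
      ((X.presheaf.mapIso (eqToIso (show f ⁻¹ᵁ W = (f ⁻¹ᵁ W).ι ''ᵁ ⊤ from (f ⁻¹ᵁ W).ι_image_top.symm)).op).hom)) b

include hdom in
theorem app_injective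
    (V : Y.Opens) (hV : genericPoint Y ∈ V) : Function.Injective (f.app V).hom := by
  intro a b h
  refine germ_injective_of_isIntegral _ _ hV ((CohIII.stalkToFunctionField f (genericPoint Y) hdom).injective ?_)
  rw [stalkToFF_germ f hdom hV, stalkToFF_germ f hdom hV]
  exact congrArg _ h

theorem exists_preimage_affine [UniversallyClosed f] (hY : Pi1.IsNormalScheme Y)
    (halg : ∀ x : X.functionField, (CohIII.stalkToFunctionField f (genericPoint Y) hdom).IsIntegralElem x →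
      x ∈ Set.range (CohIII.stalkToFunctionField f (genericPoint Y) hdom))
    {W : Y.Opens} (hW : IsAffineOpen W) [Nonempty W] (r : Γ(X, f ⁻¹ᵁ W)) :
    ∃ s, (f.app W).hom s = r := by
  have hη : genericPoint Y ∈ W := mem_of_nonempty
  have hξ := gen_mem f hdom hη
  let ι := CohIII.stalkToFunctionField f (genericPoint Y) hdom
  let gY : Γ(Y, W) →+* Y.functionField := (Y.presheaf.germ W _ hη).hom
  let gX : Γ(X, f ⁻¹ᵁ W) →+* X.functionField := (X.presheaf.germ (f ⁻¹ᵁ W) _ hξ).hom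
  obtain ⟨p, hp, hpr⟩ := isIntegralElem_app f hW r
  have h0 : Polynomial.eval₂ (gX.comp (f.app W).hom) (gX r) p = 0 := by
    rw [← Polynomial.hom_eval₂, hpr, map_zero]
  have hc : gX.comp (f.app W).hom = ι.comp gY := RingHom.ext fun a => (stalkToFF_germ f hdom hη a).symm
  rw [hc] at h0
  obtain ⟨c, hc'⟩ := halg (gX r) ⟨p.map gY, hp.map gY, by rw [Polynomial.eval₂_map]; exact h0⟩
  rw [← hc', ← Polynomial.hom_eval₂] at h0
  have h1 : Polynomial.eval₂ gY c p = 0 := ι.injective (h0.trans (map_zero ι).symm)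
  haveI := SweepSix.NormSect.isIntegrallyClosed_of_stalk hW hY
  haveI : IsFractionRing Γ(Y, W) Y.functionField := functionField_isFractionRing_of_isAffineOpen _ W hW
  obtain ⟨s, hs⟩ := IsIntegrallyClosed.isIntegral_iff.1 (show IsIntegral Γ(Y, W) c from ⟨p, hp, h1⟩)
  refine ⟨s, germ_injective_of_isIntegral _ _ hξ ?_⟩
  rw [← stalkToFF_germ f hdom hη]
  exact (congrArg ι hs).trans hc'

theorem isIso_app [UniversallyClosed f] (hY : Pi1.IsNormalScheme Y)
    (halg : ∀ x : X.functionField, (CohIII.stalkToFunctionField f (genericPoint Y) hdom).IsIntegralElem x →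
      x ∈ Set.range (CohIII.stalkToFunctionField f (genericPoint Y) hdom))
    (V : Y.Opens) : IsIso (f.app V) := by
  rw [ConcreteCategory.isIso_iff_bijective]
  rcases isEmpty_or_nonempty V with hV | hV
  · have hVe : V = ⊥ := by
      ext y; simp only [Opens.coe_bot, Set.mem_empty_iff_false, iff_false]
      exact fun hy => hV.false ⟨y, hy⟩
    subst hVe
    haveI : Subsingleton Γ(Y, ⊥) := CommRingCat.subsingleton_of_isTerminal (TopCat.Sheaf.isTerminalOfEmpty Y.sheaf)
    haveI : Subsingleton Γ(X, f ⁻¹ᵁ (⊥ : Y.Opens)) := by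
      rw [show f ⁻¹ᵁ (⊥ : Y.Opens) = ⊥ from rfl]
      exact CommRingCat.subsingleton_of_isTerminal (TopCat.Sheaf.isTerminalOfEmpty X.sheaf)
    exact ⟨fun _ _ _ => Subsingleton.elim _ _, fun _ => ⟨0, Subsingleton.elim _ _⟩⟩
  refine ⟨app_injective f hdom V mem_of_nonempty, fun r => ?_⟩
  let I := {W : Y.Opens // IsAffineOpen W ∧ Nonempty W ∧ W ≤ V}
  have hs : ∀ W : I, ∃ s, (f.app W.1).hom s =
      X.presheaf.map (homOfLE (f.preimage_mono W.2.2.2)).op r := fun W => by
    haveI := W.2.2.1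
    exact exists_preimage_affine f hdom hY halg W.2.1 _
  choose s hs using hs
  obtain ⟨g, hg, -⟩ := TopCat.Sheaf.existsUnique_gluing' (F := Y.sheaf) (fun W : I => W.1) V
    (fun W => homOfLE W.2.2.2) (fun y hy => by
      obtain ⟨W, hW, hyW, hWV⟩ := exists_isAffineOpen_mem_and_subset (U := V) hy
      exact Opens.mem_iSup.2 ⟨⟨W, hW, ⟨⟨y, hyW⟩⟩, hWV⟩, hyW⟩) s (fun W₁ W₂ => by
      have hmem : genericPoint Y ∈ W₁.1 ⊓ W₂.1 :=
        ⟨@mem_of_nonempty Y _ W₁.1 W₁.2.2.1, @mem_of_nonempty Y _ W₂.1 W₂.2.2.1⟩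
      refine germ_injective_of_isIntegral _ _ hmem ((CohIII.stalkToFunctionField f (genericPoint Y) hdom).injective ?_)
      show CohIII.stalkToFunctionField f (genericPoint Y) hdom ((Y.presheaf.germ (W₁.1 ⊓ W₂.1) _ hmem)
        (Y.presheaf.map (Opens.infLELeft _ _).op (s W₁))) = CohIII.stalkToFunctionField f (genericPoint Y) hdom
          ((Y.presheaf.germ (W₁.1 ⊓ W₂.1) _ hmem) (Y.presheaf.map (Opens.infLERight _ _).op (s W₂)))
      rw [TopCat.Presheaf.germ_res_apply, TopCat.Presheaf.germ_res_apply, stalkToFF_germ f hdom hmem.1,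
        stalkToFF_germ f hdom hmem.2, hs, hs, TopCat.Presheaf.germ_res_apply, TopCat.Presheaf.germ_res_apply])
  refine ⟨g, ?_⟩
  obtain ⟨W, hW, hyW, hWV⟩ := exists_isAffineOpen_mem_and_subset (U := V) (mem_of_nonempty (Y := Y))
  refine germ_injective_of_isIntegral _ _ (gen_mem f hdom (mem_of_nonempty (U := V))) ?_
  have h1 := hg ⟨W, hW, ⟨⟨_, hyW⟩⟩, hWV⟩
  rw [← stalkToFF_germ f hdom, ← TopCat.Presheaf.germ_res_apply Y.presheaf (homOfLE hWV) _ hyW g]
  erw [h1]
  rw [stalkToFF_germ f hdom]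
  erw [hs ⟨W, hW, ⟨⟨_, hyW⟩⟩, hWV⟩]
  rw [TopCat.Presheaf.germ_res_apply]
  exact mem_of_nonempty

theorem exists_sec_of_reg {U : X.Opens} [Nonempty U] {h : X.functionField} (hreg : ∀ x ∈ U, CDivCoreLib.Reg h x) :
    ∃ r : Γ(X, U), X.presheaf.germ U (genericPoint X) mem_of_nonempty r = h := by
  have hη : genericPoint X ∈ U := mem_of_nonempty
  have hloc : ∀ x : U, ∃ (V : X.Opens) (_ : x.1 ∈ V) (_ : V ≤ U) (hV : genericPoint X ∈ V) (r : Γ(X, V)),
      X.presheaf.germ V _ hV r = h := fun x => by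
    obtain ⟨a, ha⟩ := hreg x.1 x.2
    obtain ⟨V, hxV, r, rfl⟩ := X.presheaf.exists_germ_eq a
    have hV : genericPoint X ∈ V ⊓ U := ⟨(genericPoint_specializes x.1).mem_open V.2 hxV, hη⟩
    refine ⟨V ⊓ U, ⟨hxV, x.2⟩, inf_le_right, hV, X.presheaf.map (homOfLE inf_le_left).op r, ?_⟩
    rw [TopCat.Presheaf.germ_res_apply, ← ha, CDivCoreLib.algebraMap_germ hxV hV.1]
  choose V hxV hVU hV r hr using hloc
  obtain ⟨g, hg, -⟩ := TopCat.Sheaf.existsUnique_gluing' (F := X.sheaf) V U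
    (fun x => homOfLE (hVU x)) (fun y hy => Opens.mem_iSup.2 ⟨⟨y, hy⟩, hxV ⟨y, hy⟩⟩) r (fun x₁ x₂ => by
      refine germ_injective_of_isIntegral _ _ (show genericPoint X ∈ V x₁ ⊓ V x₂ from ⟨hV x₁, hV x₂⟩) ?_
      show X.presheaf.germ _ _ _ (X.presheaf.map _ (r x₁)) = X.presheaf.germ _ _ _ (X.presheaf.map _ (r x₂))
      rw [TopCat.Presheaf.germ_res_apply, TopCat.Presheaf.germ_res_apply, hr, hr])
  refine ⟨g, ?_⟩
  obtain ⟨x⟩ := ‹Nonempty U›
  rw [← TopCat.Presheaf.germ_res_apply X.presheaf (homOfLE (hVU x)) _ (hV x) g]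
  erw [hg x]
  exact hr x

theorem range_of_isIso (hX : Pi1.IsNormalScheme X) (hiso : ∀ U : Y.Opens, IsIso (f.app U))
    (x : X.functionField) (hx : (CohIII.stalkToFunctionField f (genericPoint Y) hdom).IsIntegralElem x) :
    x ∈ (CohIII.stalkToFunctionField f (genericPoint Y) hdom).range := by
  let ι := CohIII.stalkToFunctionField f (genericPoint Y) hdom
  obtain ⟨W, hW, hη, -⟩ := exists_isAffineOpen_mem_and_subset (x := genericPoint Y) (U := ⊤) trivial
  haveI : Nonempty W := ⟨⟨_, hη⟩⟩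
  have hξ := gen_mem f hdom hη
  haveI : Nonempty (f ⁻¹ᵁ W : X.Opens) := ⟨⟨_, hξ⟩⟩
  haveI : IsFractionRing Γ(Y, W) Y.functionField := functionField_isFractionRing_of_isAffineOpen _ W hW
  let gY : Γ(Y, W) →+* Y.functionField := (Y.presheaf.germ W _ hη).hom
  letI := ι.toAlgebra
  letI : Algebra Γ(Y, W) X.functionField := (ι.comp gY).toAlgebra
  haveI : IsScalarTower Γ(Y, W) Y.functionField X.functionField := IsScalarTower.of_algebraMap_eq fun _ => rfl
  obtain ⟨⟨m, hm⟩, p, hp, hp0⟩ := IsIntegral.exists_multiple_integral_of_isLocalization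
    (nonZeroDivisors Γ(Y, W)) (Rₘ := Y.functionField) x hx
  rw [Submonoid.mk_smul, Algebra.smul_def] at hp0
  obtain ⟨r, hr⟩ := exists_sec_of_reg (U := f ⁻¹ᵁ W) (h := ι (gY m) * x) fun z hz => by
    haveI := (hX z).2
    let φ : Γ(Y, W) →+* X.presheaf.stalk z := (X.presheaf.germ (f ⁻¹ᵁ W) z hz).hom.comp (f.app W).hom
    have hφ : (algebraMap (X.presheaf.stalk z) X.functionField).comp φ = ι.comp gY := RingHom.ext fun a =>
      (CDivCoreLib.algebraMap_germ hz hξ _).trans (stalkToFF_germ f hdom hη a).symm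
    refine IsIntegrallyClosed.isIntegral_iff.1 ⟨p.map φ, hp.map φ, ?_⟩
    rw [Polynomial.eval₂_map, hφ]
    exact hp0
  obtain ⟨s, hs⟩ := (ConcreteCategory.bijective_of_isIso (C := CommRingCat) (f.app W)).surjective r
  have hm0 : gY m ≠ 0 := (map_ne_zero_iff _ (germ_injective_of_isIntegral _ _ hη)).2 (nonZeroDivisors.ne_zero hm)
  refine ⟨gY s / gY m, ?_⟩
  rw [map_div₀, div_eq_iff ((map_ne_zero ι).2 hm0)]
  refine (stalkToFF_germ f hdom hη s).trans ?_
  rw [show (f.app W) s = r from hs, mul_comm]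
  exact hr

end PushNormalLib
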