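import Groth.Agent.PushNormalLib.Main
import Groth.Agent.OrbitLib.Dim
import Mathlib.AlgebraicGeometry.ZariskisMainTheorem

/-!
# Fibrations between varieties of the same dimension
-/

set_option autoImplicit false
universe u

open CategoryTheory CategoryTheory.Limits AlgebraicGeometry TopologicalSpace Opposite

noncomputable section

namespace PushNormalLib

attribute [local instance] specializationOrder in
theorem eq_generic_of_closedMap {X Y : Type*} [TopologicalSpace X] [TopologicalSpace Y]
    [QuasiSober X] [T0Space X] [QuasiSober Y] [T0Space Y] {g : X → Y} (hg : SpecializingMap g)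
    (hs : Function.Surjective g) {ξ : X} (hξ : ∀ x, ξ ⤳ x) {η : Y} (hη : g ξ = η) {n : ℕ}
    (hX : topologicalKrullDim X ≤ (n : WithBot ℕ∞)) (hY : (n : WithBot ℕ∞) ≤ topologicalKrullDim Y)
    {z : X} (hz : g z = η) : z = ξ := by
  by_contra hne
  rw [topologicalKrullDim, Order.krullDim_eq_of_orderIso irreducibleSetEquivPoints] at hX hY
  obtain ⟨p, hp⟩ := Order.le_krullDim_iff.1 hY
  have lift : ∀ (p : LTSeries Y) (x : X), g x = p.last →
      ∃ q : LTSeries X, q.length = p.length ∧ g q.head = p.head ∧ q.last = x := by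
    intro p
    induction p using RelSeries.inductionOn with
    | singleton y => exact fun x hx => ⟨RelSeries.singleton _ x, rfl, hx, rfl⟩
    | cons p y hy hrec =>
      intro x hx
      obtain ⟨q, hq, e, hl⟩ := hrec x (by rw [hx, RelSeries.last_cons])
      have h1 : y < p.head := hy
      have h2 : g q.head ⤳ y := by rw [e]; exact h1.le
      obtain ⟨w, hw, rfl⟩ := hg h2
      have h3 : w < q.head := lt_of_le_of_ne hw fun h => h1.ne (by rw [← e, h])
      exact ⟨q.cons w h3, by simp [hq], by simp, by simp [hl]⟩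
  obtain ⟨x, hx, hxξ⟩ : ∃ x, g x = p.last ∧ x ≠ ξ := by
    by_cases hl : p.last = η
    · exact ⟨z, hz.trans hl.symm, hne⟩
    · obtain ⟨x, hx⟩ := hs p.last
      exact ⟨x, hx, fun h => hl (by rw [← hx, h, hη])⟩
  obtain ⟨q, hq, -, hl⟩ := lift p x hx
  have h4 : q.last < ξ := lt_of_le_of_ne (hξ _) (hl ▸ hxξ)
  have h5 := (Order.LTSeries.length_le_krullDim (q.snoc ξ h4)).trans hX
  rw [RelSeries.snoc_length, hq, hp] at h5
  have h6 : ((n + 1 : ℕ) : WithBot ℕ∞) ≤ (n : ℕ) := h5
  replace h6 : n + 1 ≤ n := ENat.coe_le_coe.1 (WithBot.coe_le_coe.1 h6)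
  omega

variable {X Y : Scheme.{u}} [IsIntegral X] [IsIntegral Y]

/-- If `f_* O = O` and the generic fibre is a single point then `f` is birational. -/
theorem bijective_of_isIso (f : X ⟶ Y) [IsProper f] (hdom : f.base (genericPoint X) ⤳ genericPoint Y)
    (hsingle : ∀ z, f.base z = genericPoint Y → z = genericPoint X)
    (hiso : ∀ U : Y.Opens, IsIso (f.app U)) :
    Function.Bijective (CohIII.stalkToFunctionField f (genericPoint Y) hdom) := by
  have hη : f.base (genericPoint X) = genericPoint Y := (hdom.antisymm (genericPoint_specializes _)).eq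
  have hq : f.QuasiFiniteAt (genericPoint X) := by
    rw [Scheme.Hom.quasiFiniteAt_iff_isOpen_singleton_asFiber]
    convert isOpen_univ
    refine Set.eq_univ_of_forall fun w => ?_
    obtain ⟨t, rfl⟩ := (f.fiberHomeo (f (genericPoint X))).symm.surjective w
    refine congrArg (f.fiberHomeo (f (genericPoint X))).symm (Subtype.ext ?_)
    exact hsingle t.1 (t.2.trans hη)
  let C : Set Y := f.base '' (f.quasiFiniteLocus : Set X)ᶜ
  have hC : IsClosed C := f.isClosedMap _ f.quasiFiniteLocus.2.isClosed_compl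
  have hηC : genericPoint Y ∉ C := fun ⟨z, hz, hzη⟩ => hz (by rw [hsingle z hzη]; exact hq)
  obtain ⟨W, hW, hWη, hWC⟩ :=
    exists_isAffineOpen_mem_and_subset (x := genericPoint Y) (U := ⟨Cᶜ, hC.isOpen_compl⟩) hηC
  haveI : IsAffine W.toScheme := hW
  haveI : LocallyQuasiFinite (f ∣_ W) := by
    refine locallyQuasiFinite_iff_isDiscrete_preimage_singleton.2 fun w => ?_
    refine ⟨discreteTopology_iff_isOpen_singleton.2 fun v => ?_⟩
    have hv : f.QuasiFiniteAt v.1.1 := by
      by_contra h
      exact hWC v.1.2 ⟨v.1.1, h, rfl⟩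
    have ho : IsOpen ({⟨v.1.1, rfl⟩} : Set (f.base ⁻¹' {f.base v.1.1})) := by
      have := (f.fiberHomeo (f v.1.1)).isOpen_image.2 (Scheme.Hom.quasiFiniteAt_iff_isOpen_singleton_asFiber.1 hv)
      rwa [Set.image_singleton, Scheme.Hom.asFiber, Homeomorph.apply_symm_apply] at this
    have hb : ∀ a : (f ⁻¹ᵁ W).toScheme, ((f ∣_ W).base a).1 = f.base a.1 := fun a => by
      exact congrArg Subtype.val (morphismRestrict_base f W ▸ rfl : (f ∣_ W).base a = ⟨f.base a.1, a.2⟩)
    have hw : ∀ t : ((f ∣_ W).base ⁻¹' {w}), f.base t.1.1 = f.base v.1.1 := fun t => by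
      rw [← hb, ← hb, show (f ∣_ W).base t.1 = w from t.2, show (f ∣_ W).base v.1 = w from v.2]
    let j : ((f ∣_ W).base ⁻¹' {w}) → (f.base ⁻¹' {f.base v.1.1}) := fun t => ⟨t.1.1, hw t⟩
    have hj : Continuous j :=
      ((continuous_subtype_val (p := fun x : X => x ∈ (f ⁻¹ᵁ W : X.Opens))).comp continuous_subtype_val).subtype_mk hw
    convert ho.preimage hj using 1
    ext t
    constructor
    · intro h
      first
        | (rw [Set.mem_singleton_iff.1 h]; rfl)
        | exact Set.mem_singleton_iff.2 (Subtype.ext (Subtype.ext (congrArg Subtype.val (Set.mem_singleton_iff.1 h) :)))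
    · intro h
      first
        | (rw [Set.mem_singleton_iff.1 h]; rfl)
        | exact Set.mem_singleton_iff.2 (Subtype.ext (Subtype.ext (congrArg Subtype.val (Set.mem_singleton_iff.1 h) :)))
  haveI : IsFinite (f ∣_ W) := IsFinite.of_isProper_of_locallyQuasiFinite _
  haveI : IsAffine (f ⁻¹ᵁ W).toScheme := isAffine_of_isAffineHom (f ∣_ W)
  haveI : IsIso (f ∣_ W).appTop := by
    rw [morphismRestrict_appTop]
    haveI := hiso (W.ι ''ᵁ ⊤)
    exact IsIso.comp_isIso' (hiso _) (Functor.map_isIso _ _)
  haveI : IsIso (f ∣_ W) := by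
    have h := Scheme.isoSpec_hom_naturality (f ∣_ W)
    have e : f ∣_ W = (f ⁻¹ᵁ W).toScheme.isoSpec.hom ≫ Spec.map (f ∣_ W).appTop ≫ W.toScheme.isoSpec.inv := by
      rw [← Category.assoc, h, Category.assoc, Iso.hom_inv_id, Category.comp_id]
    rw [e]
    infer_instance
  haveI : IsIso ((f ∣_ W).stalkMap ⟨genericPoint X, gen_mem f hdom hWη⟩) := inferInstance
  haveI : IsIso (f.stalkMap (genericPoint X)) :=
    ((MorphismProperty.isomorphisms CommRingCat).arrow_mk_iso_iff
      (morphismRestrictStalkMap f W ⟨genericPoint X, gen_mem f hdom hWη⟩)).1 (by assumption)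
  have hs : Function.Bijective (Y.presheaf.stalkSpecializes hdom).hom := by
    have e : ∀ {y : Y} (h : y ⤳ genericPoint Y) (_ : y = genericPoint Y), IsIso (Y.presheaf.stalkSpecializes h) := by
      rintro y h rfl
      rw [TopCat.Presheaf.stalkSpecializes_refl]; infer_instance
    haveI := e hdom hη
    exact ConcreteCategory.bijective_of_isIso _
  exact (ConcreteCategory.bijective_of_isIso (f.stalkMap (genericPoint X))).comp hs

end PushNormalLib
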